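import Mathlib

/-!
# The branch `|Q| = q³`: `Q / Z(Q)` as a line over the field with `q²` elements

A commutative group of automorphisms which acts freely and has more than a quarter of the size of an
elementary abelian 2-group acts irreducibly, so it lies in a field of that size.
-/

set_option autoImplicit false
set_option linter.unusedSectionVars false
set_option linter.style.haveILetI false

namespace Cfsg.Agent.Involutions.RankOne.U3.Coordinates

universe u w

/-- An additive group with a free action of more than a quarter of its size is a line over a field. -/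
theorem exists_line {V : Type*} [AddCommGroup V] [Finite V] {F : Type w} [Field F] [Fintype F]
    {C : Type*} [Group C] [Finite C] (hcomm : ∀ c d : C, c * d = d * c) (T : C →* AddMonoid.End V)
    (hfree : ∀ c : C, c ≠ 1 → ∀ v, T c v = v → v = 0)
    {d : ℕ} (hV : Nat.card V = 2 ^ d) (hF : Fintype.card F = 2 ^ d) (hd : 2 ≤ d)
    (hbig : 2 ^ d < 4 * (Nat.card C + 1)) (hC : 1 < Nat.card C) :
    ∃ (α : V ≃+ F) (δ : C →* F), Function.Injective δ ∧ ∀ c v, α (T c v) = δ c * α v := by
  classical
  have hinvT : ∀ c v, T c⁻¹ (T c v) = v := fun c v => by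
    have := DFunLike.congr_fun (map_mul T c⁻¹ c) v
    rw [inv_mul_cancel, map_one] at this
    exact this.symm
  have hdich : ∀ W : AddSubgroup V, (∀ c, ∀ v ∈ W, T c v ∈ W) → W = ⊥ ∨ W = ⊤ := by
    intro W hW
    by_cases hb : W = ⊥
    · exact Or.inl hb
    right
    obtain ⟨⟨v, hv⟩, hva⟩ := (W.ne_bot_iff_exists_ne_zero).1 hb
    have hv0 : v ≠ 0 := fun h => hva (Subtype.ext h)
    have hinj : Function.Injective
        (fun o : Option C => (o.elim (0 : W) fun c => ⟨T c v, hW c v hv⟩)) := by
      have hne : ∀ c, T c v ≠ 0 := fun c h => hv0 (by rw [← hinvT c v, h, map_zero])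
      rintro (_ | c) (_ | e) h
      · rfl
      · exact absurd (congrArg Subtype.val h).symm (hne e)
      · exact absurd (congrArg Subtype.val h) (hne c)
      · have h1 : T (e⁻¹ * c) v = v := by
          rw [map_mul]
          show T e⁻¹ (T c v) = v
          rw [show T c v = T e v from congrArg Subtype.val h, hinvT]
        exact congrArg some (inv_mul_eq_one.1 (by_contra fun h' => hv0 (hfree _ h' v h1))).symm
    have hle : Nat.card C + 1 ≤ Nat.card W := by
      rw [← Finite.card_option]
      exact Nat.card_le_card_of_injective _ hinj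
    have hmul := W.card_mul_index
    rw [hV] at hmul
    have hlt : W.index < 4 := by
      by_contra h4
      have h1 : (Nat.card C + 1) * 4 ≤ Nat.card W * W.index := Nat.mul_le_mul hle (by omega)
      omega
    obtain ⟨e, -, he⟩ := (Nat.dvd_prime_pow Nat.prime_two).1 (Dvd.intro_left _ hmul)
    rcases Nat.lt_or_ge e 1 with he1 | he1
    · exact AddSubgroup.index_eq_one.1 (by rw [he, Nat.lt_one_iff.1 he1, pow_zero])
    have he2 : e < 2 := by
      by_contra h2
      have : 2 ^ 2 ≤ 2 ^ e := Nat.pow_le_pow_right (by norm_num) (by omega)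
      omega
    have hidx : W.index = 2 := by rw [he, show e = 1 by omega, pow_one]
    exfalso
    obtain ⟨x, hx⟩ := AddSubgroup.index_eq_two_iff.1 hidx
    obtain ⟨u, hu⟩ : ∃ u, u ∉ W := by
      by_contra! h
      have : W = ⊤ := eq_top_iff.2 fun y _ => h y
      rw [this, AddSubgroup.index_top] at hidx
      exact absurd hidx (by norm_num)
    obtain ⟨c, hc⟩ : ∃ c : C, c ≠ 1 := by
      haveI := Finite.one_lt_card_iff_nontrivial.1 hC
      exact exists_ne 1
    have hTu : T c u ∉ W := fun h => hu (by rw [← hinvT c u]; exact hW _ _ h)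
    have hdiff : T c u - u ∈ W := by
      rw [sub_eq_add_neg, AddSubgroup.add_mem_iff_of_index_two hidx, neg_mem_iff]
      exact iff_of_false hTu hu
    let g : W → W := fun w => ⟨T c w - w, W.sub_mem (hW _ _ w.2) w.2⟩
    have hg : Function.Injective g := fun a b h => by
      have h1 : T c a - a = T c b - b := congrArg Subtype.val h
      have h2 : T c ((a : V) - b) = (a : V) - b := by
        rw [map_sub]
        exact sub_eq_sub_iff_sub_eq_sub.1 h1
      exact Subtype.ext (sub_eq_zero.1 (hfree c hc _ h2))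
    obtain ⟨w, hw⟩ := Finite.surjective_of_injective hg ⟨_, hdiff⟩
    have h1 : T c w - w = T c u - u := congrArg Subtype.val hw
    have h2 : T c (u - w) = u - w := by
      rw [map_sub]
      exact sub_eq_sub_iff_sub_eq_sub.1 h1.symm
    exact hu (by rw [sub_eq_zero.1 (hfree c hc _ h2)]; exact w.2)
  let A : Subring (AddMonoid.End V) := Subring.closure (Set.range T)
  haveI hA : IsMulCommutative A := Subring.isMulCommutative_closure (by
    rintro _ ⟨c, rfl⟩ _ ⟨e, rfl⟩
    rw [← map_mul, ← map_mul, hcomm])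
  have hcommT : ∀ (a : A) c v, (a : AddMonoid.End V) (T c v) = T c ((a : AddMonoid.End V) v) :=
    fun a c v => DFunLike.congr_fun (congrArg Subtype.val
      (mul_comm' a (⟨T c, Subring.subset_closure ⟨c, rfl⟩⟩ : A))) v
  have hker : ∀ a : A, a ≠ 0 → Function.Injective (a : AddMonoid.End V) := by
    intro a ha
    rcases hdich (AddMonoidHom.ker (a : AddMonoid.End V)) (fun c v hv => by
        show (a : AddMonoid.End V) (T c v) = 0
        rw [hcommT, show (a : AddMonoid.End V) v = 0 from hv, map_zero]) with h | h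
    · exact (AddMonoidHom.ker_eq_bot_iff _).1 h
    · refine absurd (Subtype.ext (AddMonoidHom.ext fun v => ?_)) ha
      exact (h ▸ AddSubgroup.mem_top v : v ∈ AddMonoidHom.ker (a : AddMonoid.End V))
  haveI : Finite (AddMonoid.End V) := Finite.of_injective _ DFunLike.coe_injective
  obtain ⟨v₀, hv₀⟩ : ∃ v : V, v ≠ 0 := by
    haveI := Finite.one_lt_card_iff_nontrivial.1 (hV ▸ Nat.one_lt_two_pow (by omega))
    exact exists_ne 0
  let ev : A →+ V := AddMonoidHom.mk' (fun a => (a : AddMonoid.End V) v₀) fun a b => rfl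
  have hevi : Function.Injective ev := (injective_iff_map_eq_zero ev).2 fun a ha => by
    by_contra h
    exact hv₀ (hker a h (by rw [show (a : AddMonoid.End V) v₀ = 0 from ha, map_zero]))
  have hevs : Function.Surjective ev := by
    rw [← AddMonoidHom.range_eq_top]
    refine (hdich _ ?_).resolve_left fun h => hv₀ ?_
    · rintro c _ ⟨a, rfl⟩
      exact ⟨⟨T c, Subring.subset_closure ⟨c, rfl⟩⟩ * a, rfl⟩
    · have hmem : v₀ ∈ ev.range := ⟨1, rfl⟩
      rwa [h, AddSubgroup.mem_bot] at hmem
  let evE : A ≃+ V := AddEquiv.ofBijective ev ⟨hevi, hevs⟩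
  haveI : Nontrivial A := ⟨0, 1, fun h => hv₀ (congrArg ev h).symm⟩
  haveI : NoZeroDivisors A := ⟨fun {a b} h => by
    by_contra! hab
    refine hab.1 (Subtype.ext (AddMonoidHom.ext fun v => ?_))
    obtain ⟨u, rfl⟩ := Finite.surjective_of_injective (hker b hab.2) v
    exact DFunLike.congr_fun (congrArg Subtype.val h) u⟩
  letI : CommRing A := { (inferInstance : Ring A) with mul_comm := mul_comm' }
  haveI : IsDomain A := NoZeroDivisors.to_isDomain A
  letI : Field A := (Finite.isField_of_domain A).toField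
  letI := Fintype.ofFinite A
  let ψ : A ≃+* F := FiniteField.ringEquivOfCardEq (by
    rw [← Nat.card_eq_fintype_card, Nat.card_congr evE.toEquiv, hV, hF])
  let δ : C →* F := (ψ : A ≃* F).toMonoidHom.comp (T.codRestrict A fun c => Subring.subset_closure ⟨c, rfl⟩)
  refine ⟨evE.symm.trans ψ.toAddEquiv, δ, ?_, fun c v => ?_⟩
  · intro c e h
    have h1 : T c = T e := congrArg Subtype.val (ψ.injective h)
    by_contra hne
    refine hv₀ (hfree (e⁻¹ * c) (fun h' => hne (inv_mul_eq_one.1 h').symm) v₀ ?_)
    rw [map_mul]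
    show T e⁻¹ (T c v₀) = v₀
    rw [h1, hinvT]
  · show ψ (evE.symm (T c v)) = ψ ⟨T c, _⟩ * ψ (evE.symm v)
    rw [← map_mul]
    congr 1
    refine evE.injective ?_
    rw [AddEquiv.apply_symm_apply]
    show T c v = T c (evE (evE.symm v))
    rw [AddEquiv.apply_symm_apply]

variable {Q : Type u} [Group Q] [Finite Q] {F : Type w} [Field F] [Fintype F]

/-- The coordinate of `Q / Z(Q)`. -/
theorem exists_alpha {n : ℕ} (hn : 2 ≤ n) (hF : Fintype.card F = (2 ^ n) ^ 2)
    (hQ : Nat.card Q = (2 ^ n) ^ 3) (hZ : Nat.card (Subgroup.center Q) = 2 ^ n)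
    (hsq : ∀ x : Q, x * x ∈ Subgroup.center Q) (C : Subgroup (MulAut Q)) (hC : IsCyclic C)
    (hbig : (2 ^ n) ^ 2 < 4 * (Nat.card C + 1)) (hC1 : 1 < Nat.card C)
    (hfpf : ∀ c ∈ C, c ≠ 1 → ∀ x : Q, c x * x⁻¹ ∈ Subgroup.center Q → x ∈ Subgroup.center Q) :
    ∃ α : Q → F, (∀ x y, α (x * y) = α x + α y) ∧ (∀ x, α x = 0 ↔ x ∈ Subgroup.center Q) ∧
      Function.Surjective α ∧ ∃ δ : C →* F, Function.Injective δ ∧
        ∀ (c : C) (x : Q), α ((c : MulAut Q) x) = δ c * α x := by
  classical
  have hq2 : ∀ v : Q ⧸ Subgroup.center Q, v * v = 1 := fun v => QuotientGroup.induction_on v fun x =>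
    by rw [← QuotientGroup.mk_mul, QuotientGroup.eq_one_iff]; exact hsq x
  have hinv : ∀ v : Q ⧸ Subgroup.center Q, v⁻¹ = v := fun v => inv_eq_of_mul_eq_one_right (hq2 v)
  letI : CommGroup (Q ⧸ Subgroup.center Q) := { (inferInstance : Group (Q ⧸ Subgroup.center Q)) with
    mul_comm := fun v w => by
      calc v * w = (v * w)⁻¹ := (hinv _).symm
        _ = w * v := by rw [mul_inv_rev, hinv, hinv] }
  have hle : ∀ e : MulAut Q,
      Subgroup.center Q ≤ Subgroup.comap (e : Q ≃* Q).toMonoidHom (Subgroup.center Q) := fun e x hx =>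
    Subgroup.mem_center_iff.2 fun y => e.symm.injective (by
      simpa using Subgroup.mem_center_iff.1 hx (e.symm y))
  let T : C →* AddMonoid.End (Additive (Q ⧸ Subgroup.center Q)) :=
    { toFun := fun c => MonoidHom.toAdditive
        (QuotientGroup.map _ _ ((c : MulAut Q) : Q ≃* Q).toMonoidHom (hle _))
      map_one' := AddMonoidHom.ext fun v => by
        obtain ⟨v, rfl⟩ := Additive.ofMul.surjective v
        induction v using QuotientGroup.induction_on
        rfl
      map_mul' := fun c d => AddMonoidHom.ext fun v => by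
        obtain ⟨v, rfl⟩ := Additive.ofMul.surjective v
        induction v using QuotientGroup.induction_on
        rfl }
  have hT : ∀ (c : C) (x : Q), T c (Additive.ofMul (x : Q ⧸ Subgroup.center Q)) =
      Additive.ofMul (((c : MulAut Q) x : Q) : Q ⧸ Subgroup.center Q) := fun c x => rfl
  have hcard : Nat.card (Additive (Q ⧸ Subgroup.center Q)) = 2 ^ (n * 2) := by
    have h1 := (Subgroup.center Q).card_eq_card_quotient_mul_card_subgroup
    rw [hQ, hZ, pow_succ] at h1
    rw [Nat.card_congr Additive.toMul, pow_mul]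
    exact Nat.eq_of_mul_eq_mul_right (by positivity) h1.symm
  letI := hC.commGroup
  obtain ⟨α, δ, hδ, hα⟩ := exists_line (F := F) (fun c d : C => mul_comm c d) T
    (fun c hc v => by
      obtain ⟨x, rfl⟩ : ∃ x : Q, Additive.ofMul (x : Q ⧸ Subgroup.center Q) = v :=
        ⟨(Additive.toMul v).out, by simp⟩
      intro h
      rw [hT] at h
      have h1 := hfpf c c.2 (fun h' => hc (Subtype.ext h')) x (by
        rw [← QuotientGroup.eq_one_iff, QuotientGroup.mk_mul, QuotientGroup.mk_inv,
          Additive.ofMul.injective h, mul_inv_cancel])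
      rw [(QuotientGroup.eq_one_iff x).2 h1]
      rfl)
    hcard (by rw [hF, pow_mul]) (by omega) (by rw [pow_mul]; exact hbig) hC1
  refine ⟨fun x => α (Additive.ofMul (x : Q ⧸ Subgroup.center Q)), fun x y => ?_, fun x => ?_, ?_,
    δ, hδ, fun c x => ?_⟩
  · show α _ = _
    rw [QuotientGroup.mk_mul, ofMul_mul, map_add]
  · show α _ = 0 ↔ _
    rw [α.map_eq_zero_iff, ofMul_eq_zero, QuotientGroup.eq_one_iff]
  · intro a
    refine ⟨(Additive.toMul (α.symm a)).out, ?_⟩
    simp
  · show α _ = δ c * α _
    rw [← hα, hT]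

end Cfsg.Agent.Involutions.RankOne.U3.Coordinates
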