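import Cfsg.Agent.Lib.Involutions.RankOne.U3.Defs

/-!
# The branch `|Q| = q³`: Heisenberg coordinates from the norm form

If the squaring map is the norm, twisting the product by a bilinear form makes `Q` elementary abelian;
a linear projection onto the centre then gives the second coordinate, which is averaged over the torus.
-/

set_option autoImplicit false
set_option linter.unusedSectionVars false
set_option linter.style.haveILetI false

namespace Cfsg.Agent.Involutions.RankOne.U3.Coordinates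

universe u w

variable {Q : Type u} [Group Q] [Finite Q] {F : Type w} [Field F] [Fintype F] [CharP F 2]

/-- Two products differ by a central element. -/
theorem exists_swap (hsq : ∀ x : Q, x * x ∈ Subgroup.center Q) (x y : Q) :
    ∃ z : Subgroup.center Q, y * x = z * (x * y) := by
  refine ⟨⟨(x * y * (x * y)) * (y * y)⁻¹ * (x * x)⁻¹,
    mul_mem (mul_mem (hsq _) (inv_mem (hsq _))) (inv_mem (hsq _))⟩, ?_⟩
  have hc : ∀ w ∈ Subgroup.center Q, ∀ g : Q, g * w = w * g := fun w hw g =>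
    Subgroup.mem_center_iff.1 hw g
  have h1 := hc _ (mul_mem (hsq (x * y)) (inv_mem (hsq y))) x⁻¹
  calc y * x = x⁻¹ * (x * y * (x * y) * (y * y)⁻¹) * y := by group
    _ = (x * y * (x * y) * (y * y)⁻¹ * x⁻¹) * y := by rw [h1]
    _ = _ := by group

/-- Squares of products. -/
theorem sq_mul (hsq : ∀ x : Q, x * x ∈ Subgroup.center Q) (x y : Q) (z : Subgroup.center Q)
    (hz : y * x = z * (x * y)) :
    (⟨x * y * (x * y), hsq _⟩ : Subgroup.center Q) = z * (⟨x * x, hsq x⟩ * ⟨y * y, hsq y⟩) := by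
  refine Subtype.ext ?_
  show x * y * (x * y) = z * (x * x * (y * y))
  calc x * y * (x * y) = x * (y * x) * y := by group
    _ = x * z * (x * y * y) := by rw [hz]; group
    _ = _ := by rw [Subgroup.mem_center_iff.1 z.2 x]; group

/-- Heisenberg coordinates, equivariant under the torus. -/
theorem exists_coords {n : ℕ} (hn : 2 ≤ n) (hF : Fintype.card F = (2 ^ n) ^ 2)
    (hsq : ∀ x : Q, x * x ∈ Subgroup.center Q) (ι : Subgroup.center Q → F)
    (hι : Function.Injective ι) (hιadd : ∀ z z', ι (z * z') = ι z + ι z')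
    (hιfix : ∀ z, ι z ^ 2 ^ n = ι z) (hιsurj : ∀ w : F, w ^ 2 ^ n = w → ∃ z, ι z = w)
    (α : Q → F) (hα : ∀ x y, α (x * y) = α x + α y) (hker : ∀ x, α x = 0 ↔ x ∈ Subgroup.center Q)
    (hsurj : Function.Surjective α)
    (hS : ∀ x, ι ⟨x * x, hsq x⟩ = α x ^ (2 ^ n + 1)) (lam : F) (hlam : lam + lam ^ 2 ^ n = 1)
    (C : Subgroup (MulAut Q)) (hodd : Odd (Nat.card C)) (χ : C →* F) (δ : C →* F)
    (hδα : ∀ (c : C) x, α ((c : MulAut Q) x) = δ c * α x) (hNδ : ∀ c, δ c ^ (2 ^ n + 1) = χ c)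
    (hχι : ∀ (c : C) (z z' : Subgroup.center Q), (c : MulAut Q) z = z' → ι z' = χ c * ι z)
    (hχfix : ∀ c, χ c ^ 2 ^ n = χ c) :
    ∃ e : Q → F × F, IsCoords n e ∧ (∀ z : Subgroup.center Q, e z = (0, ι z)) ∧
      ∀ c : C, ∃ d : F, d ≠ 0 ∧ d ^ (2 ^ n + 1) = χ c ∧
        ∀ x : Q, e ((c : MulAut Q) x) = (d * (e x).1, d ^ (2 ^ n + 1) * (e x).2) := by
  classical
  letI := Fintype.ofFinite C
  have htwo : ∀ w : F, w + w = 0 := CharTwo.add_self_eq_zero
  have hqq : ∀ w : F, (w ^ 2 ^ n) ^ 2 ^ n = w := fun w => by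
    have h := FiniteField.pow_card w
    rw [hF, pow_two, pow_mul] at h
    exact h
  let tr : F →+ F := AddMonoidHom.mk' (fun w => w + w ^ 2 ^ n) fun a b => by
    rw [add_pow_char_pow]; abel
  have htrfix : ∀ w, tr w ^ 2 ^ n = tr w := fun w => by
    show (w + w ^ 2 ^ n) ^ 2 ^ n = w + w ^ 2 ^ n
    rw [add_pow_char_pow, hqq, add_comm]
  let g : F → F → F := fun a b => tr (lam ^ 2 ^ n * (a ^ 2 ^ n * b))
  have hg : ∀ a b, g a b = lam ^ 2 ^ n * (a ^ 2 ^ n * b) + lam * (a * b ^ 2 ^ n) := fun a b => by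
    show lam ^ 2 ^ n * (a ^ 2 ^ n * b) + (lam ^ 2 ^ n * (a ^ 2 ^ n * b)) ^ 2 ^ n = _
    rw [mul_pow, mul_pow, hqq, hqq]
  have hgl : ∀ a a' b, g (a + a') b = g a b + g a' b := fun a a' b => by
    simp only [hg, add_pow_char_pow]; ring
  have hgr : ∀ a b b', g a (b + b') = g a b + g a b' := fun a b b' => by
    simp only [hg, add_pow_char_pow]; ring
  have hg0l : ∀ b, g 0 b = 0 := fun b => by simp [hg]
  have hg0r : ∀ a, g a 0 = 0 := fun a => by simp [hg]
  have hι1 : ι 1 = 0 := by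
    have h := hιadd 1 1
    rwa [mul_one, left_eq_add] at h
  have hswap : ∀ x y : Q, ∃ z : Subgroup.center Q, y * x = z * (x * y) ∧
      ι z = α x ^ 2 ^ n * α y + α x * α y ^ 2 ^ n := fun x y => by
    obtain ⟨z, hz⟩ := exists_swap hsq x y
    refine ⟨z, hz, ?_⟩
    have h := congrArg ι (sq_mul hsq x y z hz)
    rw [hιadd, hιadd, hS, hS, hS, hα, pow_succ, pow_succ, pow_succ, add_pow_char_pow] at h
    linear_combination -h
  -- the twisted addition
  have hzg : ∀ x y : Q, ∃ z : Subgroup.center Q, ι z = g (α x) (α y) := fun x y =>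
    hιsurj _ (htrfix _)
  choose zg hzg using hzg
  let ad : Q → Q → Q := fun x y => x * y * zg x y
  have hα0 : ∀ z : Subgroup.center Q, α z = 0 := fun z => (hker _).2 z.2
  have hαad : ∀ x y, α (ad x y) = α x + α y := fun x y => by
    show α (x * y * zg x y) = _
    rw [hα, hα, hα0, add_zero]
  have hc : ∀ (z : Subgroup.center Q) (u : Q), u * z = z * u := fun z u =>
    Subgroup.mem_center_iff.1 z.2 u
  have hone : ∀ x y, g (α x) (α y) = 0 → zg x y = 1 := fun x y h =>
    hι (by rw [hzg, h, hι1])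
  have had0 : ∀ x, ad 1 x = x := fun x => by
    show 1 * x * zg 1 x = x
    rw [hone 1 x (by rw [(hker 1).2 (one_mem _), hg0l]), Subgroup.coe_one, one_mul, mul_one]
  have hassoc : ∀ x y z, ad (ad x y) z = ad x (ad y z) := fun x y z => by
    show x * y * zg x y * z * zg (ad x y) z = x * (y * z * zg y z) * zg x (ad y z)
    have h : zg x y * zg (ad x y) z = zg y z * zg x (ad y z) := hι (by
      rw [hιadd, hιadd, hzg, hzg, hzg, hzg, hαad, hαad, hgl, hgr]; abel)
    have h' := congrArg Subtype.val h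
    push_cast at h'
    calc x * y * zg x y * z * zg (ad x y) z
        = x * y * (zg x y * z) * zg (ad x y) z := by group
      _ = x * y * z * (zg x y * zg (ad x y) z) := by rw [← hc (zg x y) z]; group
      _ = _ := by rw [h']; group
  have hcomm : ∀ x y, ad x y = ad y x := fun x y => by
    obtain ⟨z, hz, hzι⟩ := hswap x y
    have h : zg x y = z * zg y x := hι (by
      rw [hιadd, hzg, hzg, hzι, hg, hg]
      have hl : lam ^ 2 ^ n = 1 + lam := by
        rw [← hlam]; linear_combination -(htwo lam)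
      rw [hl]
      linear_combination -(htwo (α y ^ 2 ^ n * α x)) - htwo (lam * (α x * α y ^ 2 ^ n)) * 0)
    show x * y * zg x y = y * x * zg y x
    rw [hz, h, Subgroup.coe_mul, ← hc z (x * y)]
    group
  have hself : ∀ x, ad x x = 1 := fun x => by
    have h : (⟨x * x, hsq x⟩ : Subgroup.center Q) * zg x x = 1 := hι (by
      rw [hιadd, hS, hzg, hι1, hg, pow_succ]
      linear_combination (α x ^ 2 ^ n * α x) * hlam + htwo (α x ^ 2 ^ n * α x))
    exact congrArg Subtype.val h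
  letI : Add Q := ⟨ad⟩
  letI : Zero Q := ⟨1⟩
  letI : Neg Q := ⟨id⟩
  letI iG : AddGroup Q := AddGroup.ofLeftAxioms hassoc had0 hself
  letI : AddCommGroup Q := { iG with add_comm := hcomm }
  letI : Module (ZMod 2) Q := AddCommGroup.zmodModule fun x => (two_nsmul x).trans (hself x)
  letI : Module (ZMod 2) F := AddCommGroup.zmodModule fun x => (two_nsmul x).trans (htwo x)
  let W : AddSubgroup Q :=
    { carrier := (Subgroup.center Q : Set Q)
      add_mem' := fun {x y} hx hy => mul_mem (mul_mem hx hy) (zg x y).2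
      zero_mem' := one_mem (Subgroup.center Q)
      neg_mem' := fun {x} hx => hx }
  let f₀ : W →+ F := AddMonoidHom.mk' (fun z => ι ⟨(z : Q), z.2⟩) fun z z' => by
    rw [← hιadd]
    refine congrArg ι (Subtype.ext ?_)
    show (z : Q) * z' * zg z z' = z * z'
    rw [hone (z : Q) z' (by rw [(hker _).2 z.2, hg0l]), Subgroup.coe_one, mul_one]
  obtain ⟨h₀, hh₀⟩ := LinearMap.exists_extend
    (p := AddSubgroup.toZModSubmodule 2 W) (f₀.toZModLinearMap 2)
  let h : Q →+ F := tr.comp ((AddMonoidHom.mulLeft lam).comp h₀.toAddMonoidHom)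
  have hfixh : ∀ x, h x ^ 2 ^ n = h x := fun x => htrfix _
  have hhz : ∀ z : Subgroup.center Q, h z = ι z := fun z => by
    show lam * h₀ z + (lam * h₀ z) ^ 2 ^ n = ι z
    have e : h₀ (z : Q) = ι z := LinearMap.congr_fun hh₀ ⟨(z : Q), z.2⟩
    rw [e, mul_pow, hιfix, ← add_mul, hlam, one_mul]
  have hhmul : ∀ x y : Q, h (x * y) = h x + h y + g (α x) (α y) := fun x y => by
    have e1 : h (ad x y) = h x + h y := map_add h x y
    have e2 : ad x y = ad (x * y) (zg x y) := by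
      show x * y * zg x y = x * y * zg x y * zg (x * y) (zg x y)
      rw [hone (x * y) _ (by rw [hα0, hg0r]), Subgroup.coe_one, mul_one]
    rw [e2, show h (ad (x * y) (zg x y)) = h (x * y) + h (zg x y) from map_add h _ _, hhz, hzg] at e1
    rw [← e1]
    linear_combination -(htwo (g (α x) (α y)))
  let B₀ : Q → F := fun x => h x + lam * α x ^ (2 ^ n + 1)
  have hB₀mul : ∀ x y, B₀ (x * y) = B₀ x + B₀ y + α x ^ 2 ^ n * α y := fun x y => by
    show h (x * y) + lam * α (x * y) ^ (2 ^ n + 1) = _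
    rw [hhmul, hα, pow_succ, add_pow_char_pow, hg]
    show _ = h x + lam * α x ^ (2 ^ n + 1) + (h y + lam * α y ^ (2 ^ n + 1)) + _
    rw [pow_succ, pow_succ]
    linear_combination (α x ^ 2 ^ n * α y) * hlam + htwo (lam * (α x * α y ^ 2 ^ n))
  have hB₀tr : ∀ x, B₀ x + B₀ x ^ 2 ^ n = α x ^ (2 ^ n + 1) := fun x => by
    have hN : (α x ^ (2 ^ n + 1)) ^ 2 ^ n = α x ^ (2 ^ n + 1) := by rw [← hS, hιfix]
    show h x + lam * α x ^ (2 ^ n + 1) + (h x + lam * α x ^ (2 ^ n + 1)) ^ 2 ^ n = _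
    rw [add_pow_char_pow, mul_pow, hfixh, hN]
    linear_combination (α x ^ (2 ^ n + 1)) * hlam + htwo (h x)
  have hB₀z : ∀ z : Subgroup.center Q, B₀ z = ι z := fun z => by
    show h z + lam * α (z : Q) ^ (2 ^ n + 1) = ι z
    rw [hα0, zero_pow (Nat.succ_ne_zero _), mul_zero, add_zero, hhz]
  -- averaging
  have hχ0 : ∀ c, χ c ≠ 0 := fun c hc => by
    have h := map_mul χ c c⁻¹
    rw [hc, zero_mul, mul_inv_cancel, map_one] at h
    exact one_ne_zero h
  have hsum : ∀ w : F, ∑ _c : C, w = w := fun w => by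
    rw [Finset.sum_const, Finset.card_univ, nsmul_eq_mul, ← Nat.card_eq_fintype_card,
      CharTwo.natCast_eq_ite, if_neg (Nat.not_even_iff_odd.2 hodd), one_mul]
  let B : Q → F := fun x => ∑ c : C, (χ c)⁻¹ * B₀ ((c : MulAut Q) x)
  have hBmul : ∀ x y, B (x * y) = B x + B y + α x ^ 2 ^ n * α y := fun x y => by
    show ∑ c : C, _ = ∑ c : C, _ + ∑ c : C, _ + _
    rw [← hsum (α x ^ 2 ^ n * α y), ← Finset.sum_add_distrib, ← Finset.sum_add_distrib]
    refine Finset.sum_congr rfl fun c _ => ?_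
    have e : (χ c)⁻¹ * ((δ c * α x) ^ 2 ^ n * (δ c * α y)) = α x ^ 2 ^ n * α y := by
      have hd : δ c ^ 2 ^ n * δ c = χ c := (pow_succ _ _).symm.trans (hNδ c)
      rw [mul_pow, show δ c ^ 2 ^ n * α x ^ 2 ^ n * (δ c * α y) =
        (δ c ^ 2 ^ n * δ c) * (α x ^ 2 ^ n * α y) by ring, hd, inv_mul_cancel_left₀ (hχ0 c)]
    rw [map_mul, hB₀mul, hδα, hδα, mul_add, mul_add, e]
  have hBtr : ∀ x, B x + B x ^ 2 ^ n = α x ^ (2 ^ n + 1) := fun x => by
    show ∑ c : C, _ + (∑ c : C, _) ^ 2 ^ n = _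
    rw [sum_pow_char_pow, ← Finset.sum_add_distrib, ← hsum (α x ^ (2 ^ n + 1))]
    refine Finset.sum_congr rfl fun c _ => ?_
    rw [mul_pow (χ c)⁻¹, inv_pow, hχfix, ← mul_add, hB₀tr, hδα, mul_pow, hNδ,
      inv_mul_cancel_left₀ (hχ0 c)]
  have hBz : ∀ z : Subgroup.center Q, B z = ι z := fun z => by
    show ∑ c : C, _ = _
    rw [← hsum (ι z)]
    refine Finset.sum_congr rfl fun c _ => ?_
    have hmem : (c : MulAut Q) z ∈ Subgroup.center Q := by
      rw [← hker, hδα, hα0, mul_zero]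
    rw [show (c : MulAut Q) z = ((⟨_, hmem⟩ : Subgroup.center Q) : Q) from rfl, hB₀z,
      hχι c z ⟨_, hmem⟩ rfl, inv_mul_cancel_left₀ (hχ0 c)]
  have hBc : ∀ (c : C) x, B ((c : MulAut Q) x) = χ c * B x := fun c x => by
    show ∑ d : C, _ = χ c * ∑ d : C, _
    rw [Finset.mul_sum]
    refine Fintype.sum_equiv (Equiv.mulRight c) _ _ fun d => ?_
    rw [Equiv.coe_mulRight, map_mul, mul_inv, Subgroup.coe_mul, MulAut.mul_apply]
    field_simp [hχ0 c, hχ0 d]
  have hInz : ∀ x y : Q, α x = α y → ∃ z : Subgroup.center Q, y = x * z := fun x y hxy => by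
    have h0 : α (x * (x⁻¹ * y)) = α x + α (x⁻¹ * y) := hα _ _
    rw [mul_inv_cancel_left, ← hxy, left_eq_add] at h0
    exact ⟨⟨_, (hker _).1 h0⟩, by simp⟩
  refine ⟨fun x => (α x, B x), ⟨fun x y hxy => ?_, hBtr, fun p hp => ?_, fun x y => ?_⟩,
    fun z => Prod.ext (hα0 z) (hBz z), fun c => ⟨δ c, fun h => hχ0 c ?_, hNδ c, fun x => ?_⟩⟩
  · obtain ⟨z, rfl⟩ := hInz x y (congrArg Prod.fst hxy)
    have e : B x = B (x * z) := congrArg Prod.snd hxy
    rw [hBmul, hα0, mul_zero, add_zero, hBz, left_eq_add] at e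
    rw [hι (e.trans hι1.symm), Subgroup.coe_one, mul_one]
  · obtain ⟨x, hx⟩ := hsurj p.1
    obtain ⟨z, hz⟩ := hιsurj (p.2 + B x) (by
      have h1 : p.2 + p.2 ^ 2 ^ n = p.1 ^ (2 ^ n + 1) := hp
      have h2 := hBtr x
      rw [hx, ← h1] at h2
      rw [add_pow_char_pow]
      linear_combination h2 - htwo (B x) + htwo (p.2 ^ 2 ^ n))
    refine ⟨x * z, Prod.ext ?_ ?_⟩
    · show α (x * z) = p.1
      rw [hα, hα0, add_zero, hx]
    · show B (x * z) = p.2
      rw [hBmul, hα0, mul_zero, add_zero, hBz, hz]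
      linear_combination htwo (B x)
  · exact Prod.ext (hα x y) (hBmul x y)
  · rw [← hNδ, h, zero_pow (Nat.succ_ne_zero _)]
  · refine Prod.ext (hδα c x) ?_
    show B _ = δ c ^ (2 ^ n + 1) * B x
    rw [hNδ, hBc]

end Cfsg.Agent.Involutions.RankOne.U3.Coordinates
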