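import Cfsg.Agent.Lib.Involutions.Suzuki.FieldMaps

/-!
# The branch `|Q| = q³`: the squaring map

An equivariant quadratic map is its own average, so only the monomials carrying the right character
survive: the norm, or for `q = 8`, `|W| = 3` the trace of a cube.
-/

set_option autoImplicit false
set_option linter.unusedSectionVars false
set_option linter.style.haveILetI false

namespace Cfsg.Agent.Involutions.RankOne.U3.Coordinates

universe u w

open Cfsg.Agent.Involutions.Suzuki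

/-- The possible gaps between the two exponents. -/
theorem gap_cases {n m k : ℕ} (hn : 2 ≤ n) (hm : m ∣ 2 ^ n + 1) (h3 : 2 ^ n + 1 ∣ 3 * m) (hm1 : m ≠ 1)
    (hk : m ∣ 2 ^ k + 1) (hkn : k < 2 * n) : k = n ∨ (n = 3 ∧ m = 3 ∧ (k = 1 ∨ k = 5)) := by
  have hqpos : 0 < 2 ^ n := Nat.two_pow_pos n
  have hm0 : 0 < m := Nat.pos_of_dvd_of_pos hm (by omega)
  have hqm : 2 ^ n + 1 ≤ 3 * m := Nat.le_of_dvd (by omega) h3
  rcases eq_or_ne k n with h | hne
  · exact Or.inl h
  right
  obtain ⟨l, hl0, hln, hdvd, hkl⟩ :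
      ∃ l, l ≠ 0 ∧ l ≤ n ∧ m ∣ 2 ^ l - 1 ∧ (k + l = n ∨ k = n + l) := by
    rcases lt_or_gt_of_ne hne with h | h
    · refine ⟨n - k, by omega, by omega, ?_, Or.inl (by omega)⟩
      have e : 2 ^ (n - k) * 2 ^ k = 2 ^ n := by rw [← pow_add]; congr 1; omega
      have h1 : m ∣ 2 ^ (n - k) * (2 ^ k + 1) := Dvd.dvd.mul_left hk _
      have h2 := Nat.dvd_sub h1 hm
      rw [mul_add, e, mul_one, Nat.add_sub_add_left] at h2
      exact h2
    · refine ⟨k - n, by omega, by omega, ?_, Or.inr (by omega)⟩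
      have e : 2 ^ (k - n) * 2 ^ n = 2 ^ k := by rw [← pow_add]; congr 1; omega
      have h1 : m ∣ 2 ^ (k - n) * (2 ^ n + 1) := Dvd.dvd.mul_left hm _
      have h2 := Nat.dvd_sub h1 hk
      rw [mul_add, e, mul_one, Nat.add_sub_add_left] at h2
      exact h2
  rcases eq_or_lt_of_le hln with rfl | hlt
  · exfalso
    obtain rfl : k = 0 := by omega
    rcases (Nat.dvd_prime Nat.prime_two).1 (by simpa using hk) with rfl | rfl
    · exact hm1 rfl
    · have h2 : (2 : ℕ) ∣ 2 ^ l := dvd_pow_self 2 hl0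
      omega
  have hpos : 0 < 2 ^ l - 1 := by
    have := Nat.one_lt_two_pow hl0
    omega
  have hml := Nat.le_of_dvd hpos hdvd
  have hl : l + 1 = n := by
    by_contra hne'
    have h1 : 2 ^ (l + 2) ≤ 2 ^ n := Nat.pow_le_pow_right (by norm_num) (by omega)
    rw [pow_add] at h1
    omega
  have e : 2 ^ n = 2 * 2 ^ l := by rw [← hl, pow_succ']
  have h5 : m ∣ 3 := by
    have h4 := Nat.dvd_sub hm (Dvd.dvd.mul_left hdvd 2)
    rwa [show 2 ^ n + 1 - 2 * (2 ^ l - 1) = 3 by omega] at h4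
  rcases (Nat.dvd_prime Nat.prime_three).1 h5 with h | rfl
  · exact absurd h hm1
  have hn3 : n ≤ 3 := by
    by_contra h
    have : 2 ^ 4 ≤ 2 ^ n := Nat.pow_le_pow_right (by norm_num) (by omega)
    omega
  have hn' : n = 3 := by
    by_contra h
    obtain rfl : n = 2 := by omega
    norm_num at h3
  subst hn'
  exact ⟨rfl, rfl, by omega⟩

variable {F : Type w} [Field F] [Fintype F] [CharP F 2]

/-- Every automorphism is a power of the Frobenius. -/
theorem aut_eq_pow {d : ℕ} (hF : Fintype.card F = 2 ^ d) (σ : F ≃+* F) :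
    ∃ i < d, ∀ x, σ x = x ^ 2 ^ i := by
  letI : Algebra (ZMod 2) F := ZMod.algebra F 2
  obtain ⟨i, hi⟩ := (FiniteField.bijective_frobeniusAlgEquivOfAlgebraic_pow (ZMod 2) F).2
    (AlgEquiv.ofRingEquiv (f := σ) fun x => by
      exact RingHom.congr_fun (Subsingleton.elim
        ((σ : F →+* F).comp (algebraMap (ZMod 2) F)) (algebraMap (ZMod 2) F)) x)
  refine ⟨i, ?_, fun x => ?_⟩
  · have h := Module.card_eq_pow_finrank (K := ZMod 2) (V := F)
    rw [hF, ZMod.card] at h
    exact lt_of_lt_of_eq i.2 (Nat.pow_right_injective le_rfl h).symm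
  · have h := DFunLike.congr_fun hi x
    simp only [AlgEquiv.coe_pow, FiniteField.coe_frobeniusAlgEquivOfAlgebraic_iterate, ZMod.card] at h
    exact h.symm

/-- The average of a nontrivial character is zero. -/
theorem sum_char {C : Type*} [Group C] [Fintype C] (f : C → F) (hf : ∀ a b, f (a * b) = f a * f b)
    (hodd : Odd (Fintype.card C)) (h1 : f 1 = 1) :
    (∑ c, f c) = 0 ∨ ((∀ c, f c = 1) ∧ (∑ c, f c) = 1) := by
  by_cases h : ∀ c, f c = 1
  · refine Or.inr ⟨h, ?_⟩
    rw [Finset.sum_congr rfl fun c _ => h c, Finset.sum_const, Finset.card_univ, nsmul_eq_mul,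
      mul_one, CharTwo.natCast_eq_ite, if_neg (Nat.not_even_iff_odd.2 hodd)]
  · push_neg at h
    obtain ⟨b, hb⟩ := h
    have e : f b * ∑ c, f c = ∑ c, f c := by
      rw [Finset.mul_sum]
      exact Fintype.sum_equiv (Equiv.mulLeft b) _ _ fun c => (hf b c).symm
    exact Or.inl ((mul_left_eq_self₀.1 e).resolve_left hb)

/-- A combination of two monomials. -/
theorem two_terms {ι : Type*} (s : Finset ι) (c : ι → F) (T : ι → F → F) (M₁ M₂ : F → F)
    (h : ∀ p ∈ s, T p = M₁ ∨ T p = M₂) :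
    ∃ u v : F, ∀ x, ∑ p ∈ s, c p * T p x = u * M₁ x + v * M₂ x := by
  classical
  refine ⟨∑ p ∈ s.filter (fun p => T p = M₁), c p, ∑ p ∈ s.filter (fun p => ¬ T p = M₁), c p,
    fun x => ?_⟩
  rw [Finset.sum_mul, Finset.sum_mul, ← Finset.sum_filter_add_sum_filter_not s (fun p => T p = M₁)]
  refine congrArg₂ _ (Finset.sum_congr rfl fun p hp => ?_) (Finset.sum_congr rfl fun p hp => ?_)
  · rw [(Finset.mem_filter.1 hp).2]
  · rw [(h p (Finset.mem_filter.1 hp).1).resolve_left (Finset.mem_filter.1 hp).2]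

/-- The two possible shapes of an equivariant quadratic map. -/
theorem classify {n m : ℕ} (hn : 2 ≤ n) (hm : m ∣ 2 ^ n + 1) (h3 : 2 ^ n + 1 ∣ 3 * m) (hm1 : m ≠ 1)
    (hF : Fintype.card F = (2 ^ n) ^ 2) {C : Type*} [Group C] [Finite C] (hC : IsCyclic C)
    (hN : Nat.card C = (2 ^ n - 1) * m) (δ : C →* F) (hδ : Function.Injective δ)
    (χ : C →* F) (hχ : ∀ c, χ c ^ 2 ^ n = χ c) (s : F → F)
    (hquad : ∀ x y z : F,
      s (x + y + z) + s (x + y) + s (x + z) + s (y + z) + s x + s y + s z = 0)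
    (hfix : ∀ a, s a ^ 2 ^ n = s a) (hne : ∀ a, a ≠ 0 → s a ≠ 0)
    (heq : ∀ c a, s (δ c * a) = χ c * s a) :
    (∃ (i : ℕ) (u : F), u ≠ 0 ∧ u ^ 2 ^ n = u ∧ (∀ c, χ c = (δ c ^ 2 ^ i) ^ (2 ^ n + 1)) ∧
        ∀ a, s a = u * (a ^ 2 ^ i) ^ (2 ^ n + 1)) ∨
      (n = 3 ∧ m = 3 ∧ ∃ (a₀ : F) (r : ℕ), ∀ a, s a = (a₀ * a ^ 3 + (a₀ * a ^ 3) ^ 8) ^ 2 ^ r) := by
  classical
  letI := Fintype.ofFinite C
  have hq4 : 4 ≤ 2 ^ n := (show (4 : ℕ) = 2 ^ 2 by norm_num) ▸ Nat.pow_le_pow_right (by norm_num) hn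
  have hF' : Fintype.card F = 2 ^ (n * 2) := by rw [hF, pow_mul]
  have heven : Even (2 ^ n) := (Nat.even_pow' (by omega)).2 even_two
  have hmodd : Odd m := (Even.add_one heven).of_dvd_nat hm
  have hodd : Odd (Fintype.card C) := by
    rw [← Nat.card_eq_fintype_card, hN]
    exact (Nat.Even.sub_odd (by omega) heven odd_one).mul hmodd
  have hχ0 : ∀ c, χ c ≠ 0 := fun c h => by
    have := map_mul χ c c⁻¹
    rw [h, zero_mul, mul_inv_cancel, map_one] at this
    exact one_ne_zero this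
  obtain ⟨S, co, hS⟩ := FieldMaps.exists_quadratic s hquad
  choose ex hexlt hex using fun σ : F ≃+* F => aut_eq_pow hF' σ
  let E : (F ≃+* F) × (F ≃+* F) → ℕ := fun p => 2 ^ ex p.1 + 2 ^ ex p.2
  have hE : ∀ p x, p.1 x * p.2 x = x ^ E p := fun p x => by rw [hex, hex, ← pow_add]
  let good : Finset ((F ≃+* F) × (F ≃+* F)) := S.filter fun p => ∀ c, δ c ^ E p = χ c
  have havg : ∀ a, s a = ∑ p ∈ good, co p * a ^ E p := by
    intro a
    have h1 : s a = ∑ c : C, (χ c)⁻¹ * s (δ c * a) := by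
      rw [Finset.sum_congr rfl fun c _ => show (χ c)⁻¹ * s (δ c * a) = s a by
        rw [heq, inv_mul_cancel_left₀ (hχ0 c)]]
      rw [Finset.sum_const, Finset.card_univ, nsmul_eq_mul, CharTwo.natCast_eq_ite,
        if_neg (Nat.not_even_iff_odd.2 hodd), one_mul]
    rw [h1]
    calc ∑ c : C, (χ c)⁻¹ * s (δ c * a)
        = ∑ c : C, ∑ p ∈ S, (co p * a ^ E p) * ((χ c)⁻¹ * δ c ^ E p) := by
          refine Finset.sum_congr rfl fun c _ => ?_
          rw [hS, Finset.mul_sum]
          refine Finset.sum_congr rfl fun p _ => ?_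
          rw [hE, mul_pow]
          ring
      _ = ∑ p ∈ S, (co p * a ^ E p) * ∑ c : C, (χ c)⁻¹ * δ c ^ E p := by
          rw [Finset.sum_comm]
          simp_rw [Finset.mul_sum]
      _ = ∑ p ∈ good, co p * a ^ E p := by
          rw [Finset.sum_filter]
          refine Finset.sum_congr rfl fun p _ => ?_
          rcases sum_char (fun c => (χ c)⁻¹ * δ c ^ E p) (fun c d => by
              rw [map_mul, map_mul, mul_inv, mul_pow]; ring) hodd (by simp) with h | ⟨h, h'⟩
          · rw [h, mul_zero, if_neg]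
            intro hall
            rw [Finset.sum_congr rfl fun c _ => show (χ c)⁻¹ * δ c ^ E p = 1 by
              rw [hall c, inv_mul_cancel₀ (hχ0 c)], Finset.sum_const, Finset.card_univ, nsmul_eq_mul,
              mul_one, CharTwo.natCast_eq_ite, if_neg (Nat.not_even_iff_odd.2 hodd)] at h
            exact one_ne_zero h
          · rw [h', mul_one, if_pos]
            exact fun c => ((inv_mul_eq_one₀ (hχ0 c)).1 (h c)).symm
  obtain ⟨g, hg⟩ := hC.exists_generator
  have hord : orderOf (δ g) = (2 ^ n - 1) * m := by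
    rw [orderOf_injective δ hδ, orderOf_eq_card_of_forall_mem_zpowers hg, hN]
  have hshape : ∀ p ∈ good, (∃ i < n, E p = 2 ^ i * (2 ^ n + 1)) ∨
      (n = 3 ∧ m = 3 ∧ ∃ l < 6, (∀ a : F, a ^ E p = a ^ (3 * 2 ^ l)) ∧ E p % 21 = 3 * 2 ^ l % 21) := by
    intro p hp
    have hc := (Finset.mem_filter.1 hp).2 g
    have h1 : (δ g) ^ (E p * (2 ^ n - 1)) = 1 := by
      rw [pow_mul, hc]
      have h2 := hχ g
      conv at h2 => lhs; rw [show 2 ^ n = (2 ^ n - 1) + 1 by omega, pow_succ]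
      exact (mul_left_eq_self₀.1 h2).resolve_right (hχ0 g)
    have h2 := orderOf_dvd_of_pow_eq_one h1
    rw [hord, mul_comm (E p)] at h2
    have hdvd : m ∣ E p := Nat.dvd_of_mul_dvd_mul_left (by omega) h2
    obtain ⟨i, j, hij, hj, hEp⟩ : ∃ i j, i ≤ j ∧ j < n * 2 ∧ E p = 2 ^ i + 2 ^ j := by
      rcases le_total (ex p.1) (ex p.2) with h | h
      · exact ⟨_, _, h, hexlt _, rfl⟩
      · exact ⟨_, _, h, hexlt _, add_comm _ _⟩
    have hEp' : E p = 2 ^ i * (2 ^ (j - i) + 1) := by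
      rw [hEp, mul_add, mul_one, ← pow_add, show i + (j - i) = j by omega, add_comm]
    have hk : m ∣ 2 ^ (j - i) + 1 :=
      ((Nat.coprime_two_right.2 hmodd).pow_right i).dvd_of_dvd_mul_left (hEp' ▸ hdvd)
    rcases gap_cases hn hm h3 hm1 hk (by omega) with h | ⟨hn3, hm3, h | h⟩
    · exact Or.inl ⟨i, by omega, by rw [hEp', h]⟩
    · refine Or.inr ⟨hn3, hm3, i, by omega, fun a => ?_, ?_⟩ <;>
        · rw [hEp', h]
          ring_nf
    · refine Or.inr ⟨hn3, hm3, 5, by norm_num, fun a => ?_, ?_⟩ <;>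
        obtain rfl : i = 0 := by omega
      · rw [hEp', h]
        have h64 : a ^ (64 : ℕ) = a := by
          have := FiniteField.pow_card a
          rwa [hF, hn3] at this
        norm_num
        rw [show (96 : ℕ) = 64 + 32 by norm_num, pow_add, h64, ← pow_succ']
      · rw [hEp', h]
        norm_num
  obtain ⟨p₀, hp₀⟩ : good.Nonempty := by
    rw [Finset.nonempty_iff_ne_empty]
    intro h
    exact hne 1 one_ne_zero (by rw [havg, h, Finset.sum_empty])
  have hmodeq : ∀ p ∈ good, E p ≡ E p₀ [MOD (2 ^ n - 1) * m] := fun p hp => by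
    rw [← hord]
    have hfin : IsOfFinOrder (δ g) := orderOf_pos_iff.1 (by rw [hord]; exact Nat.mul_pos (by omega) hmodd.pos)
    refine hfin.pow_eq_pow_iff_modEq.1 ?_
    rw [(Finset.mem_filter.1 hp).2 g, (Finset.mem_filter.1 hp₀).2 g]
  rcases hshape p₀ hp₀ with ⟨i, hi, hE₀⟩ | ⟨hn3, hm3, l, hl, hl₀, hl21⟩
  · have hall : ∀ p ∈ good, E p = E p₀ := by
      intro p hp
      have hmod := hmodeq p hp
      rcases hshape p hp with ⟨j, hj, hE'⟩ | ⟨hn3, hm3, l, hl, -, hl21⟩
      · rw [hE', hE₀] at hmod ⊢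
        have hN3 : Nat.gcd ((2 ^ n - 1) * m) (2 ^ n + 1) = m := by
          obtain ⟨k, hk⟩ := hm
          have hcop : Nat.Coprime (2 ^ n - 1) (2 ^ n + 1) := by
            rw [show 2 ^ n + 1 = (2 ^ n - 1) + 2 by omega, Nat.coprime_self_add_right,
              Nat.coprime_two_right]
            exact Nat.Even.sub_odd (by omega) heven odd_one
          rw [Nat.Coprime.gcd_mul_left_cancel _ hcop]
          exact Nat.gcd_eq_left ⟨k, hk⟩
        have h1 := hmod.cancel_right_div_gcd (Nat.mul_pos (by omega) hmodd.pos)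
        rw [hN3, Nat.mul_div_cancel _ hmodd.pos] at h1
        have hlt : ∀ k < n, 2 ^ k < 2 ^ n - 1 := fun k hk => by
          have : 2 ^ k * 2 ≤ 2 ^ n := by
            rw [← pow_succ]; exact Nat.pow_le_pow_right (by norm_num) (by omega)
          omega
        rw [Nat.ModEq, Nat.mod_eq_of_lt (hlt j hj), Nat.mod_eq_of_lt (hlt i hi)] at h1
        rw [h1]
      · exfalso
        subst hn3 hm3
        rw [hE₀] at hmod
        have hmod' : E p % 21 = 2 ^ i * 9 % 21 := hmod
        rw [hl21] at hmod'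
        interval_cases l <;> interval_cases i <;> omega
    have hs : ∀ a, s a = (∑ p ∈ good, co p) * (a ^ 2 ^ i) ^ (2 ^ n + 1) := fun a => by
      rw [havg, Finset.sum_mul]
      exact Finset.sum_congr rfl fun p hp => by rw [hall p hp, hE₀, pow_mul]
    refine Or.inl ⟨i, _, fun h => hne 1 one_ne_zero (by rw [hs, h, zero_mul]), ?_, fun c => ?_, hs⟩
    · have := hfix 1
      rwa [hs, one_pow, one_pow, mul_one] at this
    · rw [← pow_mul, ← hE₀]
      exact ((Finset.mem_filter.1 hp₀).2 c).symm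
  · subst hn3 hm3
    refine Or.inr ⟨rfl, rfl, ?_⟩
    have h64 : ∀ a : F, a ^ (64 : ℕ) = a := fun a => by
      have := FiniteField.pow_card a
      rwa [hF] at this
    obtain ⟨r, hr, hr'⟩ : ∃ r < 3, l = r ∨ l = r + 3 :=
      ⟨if l < 3 then l else l - 3, by split_ifs <;> omega, by split_ifs <;> omega⟩
    have hterm : ∀ p ∈ good, (fun a : F => a ^ E p) = (fun a => a ^ (3 * 2 ^ r)) ∨
        (fun a : F => a ^ E p) = (fun a => (a ^ (3 * 2 ^ r)) ^ 8) := by
      intro p hp
      have hmod : E p % 21 = E p₀ % 21 := hmodeq p hp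
      rw [hl21] at hmod
      rcases hshape p hp with ⟨j, hj, hE'⟩ | ⟨-, -, j, hj, hj', hj21⟩
      · exfalso
        rw [hE'] at hmod
        have hmod' : 2 ^ j * 9 % 21 = 3 * 2 ^ l % 21 := hmod
        interval_cases l <;> interval_cases j <;> omega
      · rw [hj21] at hmod
        have h' : j = r ∨ j = r + 3 := by
          interval_cases r <;> rcases hr' with rfl | rfl <;> interval_cases j <;> omega
        rcases h' with rfl | rfl
        · exact Or.inl (funext hj')
        · refine Or.inr (funext fun a => ?_)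
          rw [hj' a, ← pow_mul, mul_assoc, pow_add]
          norm_num
    obtain ⟨u, v, huv⟩ := two_terms good co (fun p a => a ^ E p) _ _ hterm
    have hs : ∀ a, s a = u * a ^ (3 * 2 ^ r) + v * (a ^ (3 * 2 ^ r)) ^ 8 := fun a =>
      (havg a).trans (huv a)
    obtain ⟨a₀, ha₀⟩ : ∃ a₀, a₀ ^ 2 ^ r = u :=
      ⟨((iterateFrobeniusEquiv F 2 r).symm u), iterateFrobeniusEquiv_apply F 2 r _ ▸
        (iterateFrobeniusEquiv F 2 r).apply_symm_apply u⟩
    have hv : v = u ^ 8 := by
      have hkey : ∀ a : F, (u + v ^ 8) * a ^ (3 * 2 ^ r) +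
          (u + v ^ 8) ^ 8 * (a ^ (3 * 2 ^ r)) ^ 8 = 0 := fun a => by
        have h := hfix a
        norm_num only [Nat.reducePow] at h
        rw [hs] at h
        rw [show (8 : ℕ) = 2 ^ 3 by norm_num] at h ⊢
        rw [add_pow_char_pow, mul_pow, mul_pow, ← pow_mul (a ^ (3 * 2 ^ r)),
          show (2 : ℕ) ^ 3 * 2 ^ 3 = 64 by norm_num, h64] at h
        rw [add_pow_char_pow, ← pow_mul v, show (2 : ℕ) ^ 3 * 2 ^ 3 = 64 by norm_num, h64]
        linear_combination h + u * a ^ (3 * 2 ^ r) * (CharTwo.two_eq_zero : (2 : F) = 0) +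
          v * (a ^ (3 * 2 ^ r)) ^ 2 ^ 3 * (CharTwo.two_eq_zero : (2 : F) = 0)
      have h11 := hkey 1
      rw [one_pow, one_pow, mul_one, mul_one, CharTwo.add_eq_zero] at h11
      obtain ⟨x, hx⟩ := IsCyclic.exists_generator (α := Fˣ)
      have hox : orderOf x = 63 := by
        rw [orderOf_eq_card_of_forall_mem_zpowers hx, Nat.card_eq_fintype_card, Fintype.card_units, hF]
        norm_num
      have h12 := hkey (x : F)
      rw [← h11, ← mul_add] at h12
      rcases mul_eq_zero.1 h12 with h | h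
      · have h2 : u = v ^ 8 := CharTwo.add_eq_zero.1 h
        rw [h2, ← pow_mul, h64]
      · exfalso
        have h2 : x ^ (3 * 2 ^ r) = x ^ (3 * 2 ^ r * 8) := by
          rw [pow_mul x (3 * 2 ^ r) 8]
          exact Units.ext (by push_cast; exact CharTwo.add_eq_zero.1 h)
        have h3 := pow_eq_pow_iff_modEq.1 h2
        rw [hox, Nat.ModEq] at h3
        interval_cases r <;> omega
    refine ⟨a₀, r, fun a => ?_⟩
    have key : (a₀ * a ^ 3) ^ 2 ^ r = u * a ^ (3 * 2 ^ r) := by rw [mul_pow, ha₀, ← pow_mul]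
    rw [hs, hv, add_pow_char_pow, ← pow_mul (a₀ * a ^ 3), mul_comm 8 (2 ^ r), pow_mul (a₀ * a ^ 3),
      key, mul_pow]

end Cfsg.Agent.Involutions.RankOne.U3.Coordinates
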